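import Groth.Agent.Lib.Helper74.LCSheaf.ZeroIso

/-!
# `ℋ^q_Z(F)` for locally closed `Z` is the sheafification of `V' ↦ Ext^q(ℤ_{V∩V'}/ℤ_{W∩V'}, F)`
(helper74; δ-functor argument after helper4's `RpushDelta`)
-/

set_option autoImplicit false
set_option linter.unusedSectionVars false

universe u

open CategoryTheory CategoryTheory.Limits TopologicalSpace Opposite

namespace Groth.Agent.Lib.Helper74.LCSheaf

open LocCohZ SuppFam Groth.Agent.Lib.Helper96 Groth.Agent.Lib.Helper33.LocCohSS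
  Groth.Agent.Lib.Helper4.DeltaFamily DeltaF Abelian

variable {X : TopCat.{u}} {W V : Opens X} (h : W ≤ V)

variable (X) in
/-- sheafification of abelian presheaves on `X` -/
noncomputable abbrev Sh : ((Opens X)ᵒᵖ ⥤ AddCommGrpCat.{u}) ⥤ CohTop.Ab X :=
  presheafToSheaf (Opens.grothendieckTopology X) AddCommGrpCat.{u}

/-- sheafification of the underlying presheaf of a sheaf -/
noncomputable def counitIso :
    sheafToPresheaf (Opens.grothendieckTopology X) AddCommGrpCat.{u} ⋙ Sh X ≅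
      𝟭 (CohTop.Ab X) :=
  haveI : IsIso (sheafificationAdjunction (Opens.grothendieckTopology X)
      AddCommGrpCat.{u}).counit := NatIso.isIso_of_isIso_app _
  asIso (sheafificationAdjunction (Opens.grothendieckTopology X) AddCommGrpCat.{u}).counit

/-- the δ-functor `F ↦ (V' ↦ Extⁿ(ℤ_{V∩V'}/ℤ_{W∩V'}, F))^#` -/
noncomputable def T' : CohDeltaFunctor (CohTop.Ab X) (CohTop.Ab X) ℕ :=
  postcompExact (Sh X) (extFamilyDelta.{u} (ZQ h))

lemma T'_F (n : ℕ) : (T' h).F n = extFamily.{u} (ZQ h) n ⋙ Sh X := rfl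

lemma T'_isUniversal : (T' h).IsUniversal := by
  apply Groth.Agent.S6773.result
  rw [Groth.Agent.S14349.result]
  intro n I hI
  have hz : IsZero ((extFamily.{u} (ZQ h) (n + 1)).obj I) := by
    rw [Functor.isZero_iff]
    intro U
    have : Subsingleton (Ext.{u} ((ZQ h).obj U.unop) I (n + 1)) :=
      subsingleton_of_forall_eq 0 (fun x => Ext.eq_zero_of_injective x)
    exact @AddCommGrpCat.isZero_of_subsingleton
      (((extFamily.{u} (ZQ h) (n + 1)).obj I).obj U) this
  rw [T'_F, Functor.comp_obj]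
  exact Functor.map_isZero (Sh X) hz

/-- degree zero of `T'` is `Γ_Z` -/
noncomputable def T'ZeroIso : sectSuppLC h ≅ (T' h).F 0 :=
  (sectSuppLC h).rightUnitor.symm ≪≫
    Functor.isoWhiskerLeft (sectSuppLC h) (counitIso (X := X)).symm ≪≫
    (Functor.associator _ _ _).symm ≪≫
    Functor.isoWhiskerRight (zeroIso h) (Sh X)

instance preservesFiniteLimits_sectSuppLC : PreservesFiniteLimits (sectSuppLC h) := by
  have : (CohTop.push (CohCx.incl V)).IsRightAdjoint :=
    (TopCat.Sheaf.pullbackPushforwardAdjunction AddCommGrpCat.{u} (CohCx.incl V)).isRightAdjoint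
  have : PreservesFiniteLimits (sectSuppF (X := TopCat.of V) (inOpen V W)) :=
    preservesFiniteLimits_sectSuppF (X := TopCat.of V) (inOpen V W)
  unfold sectSuppLC
  infer_instance

open Groth.Agent.Lib.Helper83 Groth.Agent.Lib.Helper33.ExtDelta in
/-- **`ℋ^q_Z ≅ (F ↦ (V' ↦ Ext^q(ℤ_{V∩V'}/ℤ_{W∩V'}, F))^#)` as functors.** -/
theorem nonempty_HZshLC_iso (q : ℕ) :
    Nonempty (HZshLC h q ≅ extFamily.{u} (ZQ h) q ⋙ Sh X) := by
  have := nonempty_iso_of_isUniversal (derivedLES (sectSuppLC h)).toCohDeltaFunctor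
    (T' h) (Groth.Agent.S16465.result _ _) (T'_isUniversal h)
    ((sectSuppLC h).rightDerivedZeroIsoSelf ≪≫ T'ZeroIso h) q
  rw [T'_F] at this
  exact this

/-- the statement for a single sheaf -/
theorem nonempty_HZshLC_obj_iso (F : CohTop.Ab X) (q : ℕ) :
    Nonempty ((HZshLC h q).obj F ≅ (Sh X).obj (HZpre F q h)) := by
  obtain ⟨e⟩ := nonempty_HZshLC_iso h q
  exact ⟨e.app F ≪≫ (Sh X).mapIso (extFamilyIso h F q)⟩

end Groth.Agent.Lib.Helper74.LCSheaf
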