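import Groth.Prelude.Def_SuppFam
import Groth.Agent.Lib.Helper33.LocCohNat
import Groth.Agent.Lib.Helper4.RpushDelta

/-!
# Local cohomology sheaves for a locally closed subset as sheafified Ext-presheaves (helper74)
-/

set_option autoImplicit false
set_option linter.unusedSectionVars false

universe u

open CategoryTheory CategoryTheory.Limits TopologicalSpace Opposite

namespace Groth.Agent.Lib.Helper74.LCSheaf

open LocCohZ SuppFam Groth.Agent.Lib.Helper96 Groth.Agent.Lib.Helper33.LocCohSS
  Groth.Agent.Lib.Helper4.DeltaFamily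

variable {X : TopCat.{u}} {W V : Opens X} (h : W ≤ V)

/-- the functor `V' ↦ ℤ_{V ∩ V'}/ℤ_{W ∩ V'}` -/
noncomputable def ZQ : Opens X ⥤ CohTop.Ab X where
  obj V' := zq (inf_le_inf_right V' h : W ⊓ V' ≤ V ⊓ V')
  map {A B} g := zqMap (inf_le_inf_right B h) (inf_le_inf_right A h)
    (inf_le_inf_left W (leOfHom g)) (inf_le_inf_left V (leOfHom g))
  map_id A := zqMap_id _
  map_comp f g := (zqMap_comp _ _ _ _ _ _ _).symm

/-- the Ext-family of `ZQ` is the presheaf `HZpre` -/
noncomputable def extFamilyIso (F : CohTop.Ab X) (q : ℕ) :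
    (extFamily.{u} (ZQ h) q).obj F ≅ HZpre F q h :=
  NatIso.ofComponents (fun _ => Iso.refl _) (by
    intro A B g
    rfl)

end Groth.Agent.Lib.Helper74.LCSheaf
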