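import Groth.Agent.Lib.Helper74.LCSheaf.Basic

/-!
# Sections of `Γ_Z(F)` for a locally closed `Z = V ∖ W` (helper74)
-/

set_option autoImplicit false
set_option linter.unusedSectionVars false

universe u

open CategoryTheory CategoryTheory.Limits TopologicalSpace Opposite

namespace Groth.Agent.Lib.Helper74.LCSheaf

open LocCohZ SuppFam Groth.Agent.Lib.Helper96 Groth.Agent.Lib.Helper33.LocCohSS
  Groth.Agent.Lib.Helper4.DeltaFamily

variable {X : TopCat.{u}} {W V : Opens X} (h : W ≤ V)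

variable (V) in
/-- the image in `X` of an open of the subspace `V` -/
abbrev im (A : Opens (TopCat.of V)) : Opens X := V.isOpenEmbedding.isOpenMap.functor.obj A

variable (V) in
/-- the preimage in `V` of an open of `X` -/
abbrev pre (V' : Opens X) : Opens (TopCat.of V) := (Opens.map (CohCx.incl V)).obj V'

lemma im_pre (V' : Opens X) : im V (pre V V') = V ⊓ V' := by
  ext x
  constructor
  · rintro ⟨y, hy, rfl⟩
    exact ⟨y.2, hy⟩
  · rintro ⟨hx1, hx2⟩
    exact ⟨⟨x, hx1⟩, hx2, rfl⟩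

include h in
lemma im_pre_inf (V' : Opens X) : im V (pre V V' ⊓ inOpen V W) = W ⊓ V' := by
  ext x
  constructor
  · rintro ⟨y, ⟨hy1, hy2⟩, rfl⟩
    exact ⟨hy2, hy1⟩
  · rintro ⟨hx1, hx2⟩
    exact ⟨⟨x, h hx1⟩, ⟨hx2, hx1⟩, rfl⟩

/-- restriction of `F|_V` is restriction of `F` -/
lemma restr_map (F : CohTop.Ab X) {A B : Opens (TopCat.of V)} (i : A ≤ B)
    (s : (CohTop.restr F V).obj.obj (op B)) :
    (CohTop.restr F V).obj.map (homOfLE i).op s =
      F.obj.map (homOfLE (show im V A ≤ im V B from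
        (V.isOpenEmbedding.isOpenMap.functor.map (homOfLE i)).le)).op s := rfl

/-- the comparison map: a section of `Γ_Z(F)` over `V'` is a section of `F` over `V ⊓ V'` -/
noncomputable def a (F : CohTop.Ab X) (V' : Opens X) :
    ((sectSuppLC h).obj F).obj.obj (op V') →+ F.obj.obj (op (V ⊓ V')) :=
  (F.obj.map (homOfLE (im_pre V').ge).op).hom.comp
    ((TowerLim.Γ (pre V V')).map (ιZ (inOpen V W) (CohTop.restr F V))).hom

lemma map_map_le (F : CohTop.Ab X) {A B C : Opens X} (i : A ≤ B) (j : B ≤ C)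
    (s : F.obj.obj (op C)) :
    F.obj.map (homOfLE i).op (F.obj.map (homOfLE j).op s) =
      F.obj.map (homOfLE (i.trans j)).op s := by
  rw [← ConcreteCategory.comp_apply, ← F.obj.map_comp]
  rfl

lemma map_le_self (F : CohTop.Ab X) {A : Opens X} (i : A ≤ A) (s : F.obj.obj (op A)) :
    F.obj.map (homOfLE i).op s = s := by
  have : (homOfLE i).op = 𝟙 (op A) := Subsingleton.elim _ _
  rw [this, F.obj.map_id]
  rfl

lemma a_apply (F : CohTop.Ab X) (V' : Opens X) (s : ((sectSuppLC h).obj F).obj.obj (op V')) :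
    a h F V' s = F.obj.map (homOfLE (im_pre V').ge).op
      ((TowerLim.Γ (pre V V')).map (ιZ (inOpen V W) (CohTop.restr F V)) s) := rfl

lemma a_mem (F : CohTop.Ab X) (V' : Opens X) (s : ((sectSuppLC h).obj F).obj.obj (op V')) :
    a h F V' s ∈ sectZ F (inf_le_inf_right V' h : W ⊓ V' ≤ V ⊓ V') := by
  rw [AddMonoidHom.mem_ker, a_apply]
  have h0 := res_ιZ_eq_zero (inOpen V W) (CohTop.restr F V) (pre V V') s
  have h1 : W ⊓ V' ≤ im V (pre V V' ⊓ inOpen V W) := (im_pre_inf h V').ge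
  have h2 : im V (pre V V' ⊓ inOpen V W) ≤ im V (pre V V') :=
    (V.isOpenEmbedding.isOpenMap.functor.map (homOfLE inf_le_left)).le
  have h3 : F.obj.map (homOfLE h2).op
      ((TowerLim.Γ (pre V V')).map (ιZ (inOpen V W) (CohTop.restr F V)) s) = 0 := h0
  change F.obj.map (homOfLE _).op (F.obj.map (homOfLE _).op _) = 0
  rw [map_map_le, ← map_map_le F h1 h2, h3, map_zero]

lemma a_injective (F : CohTop.Ab X) (V' : Opens X) : Function.Injective (a h F V') := by
  intro s s' hss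
  rw [a_apply, a_apply] at hss
  haveI : Mono (ιZ (inOpen V W) (CohTop.restr F V)) :=
    inferInstanceAs (Mono (kernel.ι (Groth.Agent.S19245.eta (CohTop.restr F V) (inOpen V W))))
  apply Groth.Agent.S19245.Γ_map_injective_of_mono (ιZ (inOpen V W) (CohTop.restr F V)) (pre V V')
  have := congrArg (F.obj.map (homOfLE (im_pre V').le).op) hss
  change F.obj.map (homOfLE _).op (F.obj.map (homOfLE _).op _) =
    F.obj.map (homOfLE _).op (F.obj.map (homOfLE _).op _) at this
  rw [map_map_le, map_map_le, map_le_self, map_le_self] at this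
  exact this

lemma a_surjective (F : CohTop.Ab X) (V' : Opens X) (t : F.obj.obj (op (V ⊓ V')))
    (ht : t ∈ sectZ F (inf_le_inf_right V' h : W ⊓ V' ≤ V ⊓ V')) :
    ∃ s, a h F V' s = t := by
  rw [AddMonoidHom.mem_ker] at ht
  let t' : (TowerLim.Γ (pre V V')).obj (CohTop.restr F V) :=
    F.obj.map (homOfLE (im_pre V').le).op t
  have h1 : im V (pre V V' ⊓ inOpen V W) ≤ W ⊓ V' := (im_pre_inf h V').le
  have h2 : im V (pre V V' ⊓ inOpen V W) ≤ im V (pre V V') :=
    (V.isOpenEmbedding.isOpenMap.functor.map (homOfLE inf_le_left)).le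
  have ht' : TowerLim.res (CohTop.restr F V)
      (inf_le_left : pre V V' ⊓ inOpen V W ≤ pre V V') t' = 0 := by
    show F.obj.map (homOfLE h2).op (F.obj.map (homOfLE (im_pre V').le).op t) = 0
    rw [map_map_le, ← map_map_le F h1 (inf_le_inf_right V' h)]
    erw [ht]
    rw [map_zero]
  obtain ⟨κ, hκ⟩ := exists_sectSupp_section (inOpen V W) (CohTop.restr F V) (pre V V') t' ht'
  refine ⟨κ, ?_⟩
  rw [a_apply, hκ]
  change F.obj.map (homOfLE _).op (F.obj.map (homOfLE _).op t) = t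
  rw [map_map_le, map_le_self]

lemma a_nat_V (F : CohTop.Ab X) {V₁ V₂ : Opens X} (g : V₂ ≤ V₁)
    (s : ((sectSuppLC h).obj F).obj.obj (op V₁)) :
    a h F V₂ (((sectSuppLC h).obj F).obj.map (homOfLE g).op s) =
      F.obj.map (homOfLE (inf_le_inf_left V g)).op (a h F V₁ s) := by
  have i : pre V V₂ ≤ pre V V₁ := ((Opens.map (CohCx.incl V)).map (homOfLE g)).le
  have e1 : ((sectSuppLC h).obj F).obj.map (homOfLE g).op s =
      TowerLim.res ((sectSuppF (inOpen V W)).obj (CohTop.restr F V)) i s := rfl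
  rw [a_apply, a_apply, e1, ← TowerLim.res_naturality]
  have i' : im V (pre V V₂) ≤ im V (pre V V₁) :=
    (V.isOpenEmbedding.isOpenMap.functor.map (homOfLE i)).le
  show F.obj.map (homOfLE _).op (F.obj.map (homOfLE i').op _) =
    F.obj.map (homOfLE _).op (F.obj.map (homOfLE _).op _)
  rw [map_map_le, map_map_le]

lemma a_nat_F {F F' : CohTop.Ab X} (φ : F ⟶ F') (V' : Opens X)
    (s : ((sectSuppLC h).obj F).obj.obj (op V')) :
    a h F' V' (((sectSuppLC h).map φ).hom.app (op V') s) =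
      φ.hom.app (op (V ⊓ V')) (a h F V' s) := by
  have e1 : ((sectSuppLC h).map φ).hom.app (op V') s =
      (TowerLim.Γ (pre V V')).map
        ((sectSuppF (inOpen V W)).map ((CohTop.restrFunctor V).map φ)) s := rfl
  rw [a_apply, a_apply, e1]
  have e2 : (TowerLim.Γ (pre V V')).map (ιZ (inOpen V W) (CohTop.restr F' V))
      ((TowerLim.Γ (pre V V')).map
        ((sectSuppF (inOpen V W)).map ((CohTop.restrFunctor V).map φ)) s) =
      (TowerLim.Γ (pre V V')).map ((CohTop.restrFunctor V).map φ)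
        ((TowerLim.Γ (pre V V')).map (ιZ (inOpen V W) (CohTop.restr F V)) s) := by
    rw [← ConcreteCategory.comp_apply, ← ConcreteCategory.comp_apply, ← Functor.map_comp,
      ← Functor.map_comp, sectSuppF_map_ι]
  rw [e2]
  have e3 := φ.hom.naturality (homOfLE (im_pre (V := V) V').ge).op
  exact (ConcreteCategory.congr_hom e3
    ((TowerLim.Γ (pre V V')).map (ιZ (inOpen V W) (CohTop.restr F V)) s)).symm

/-- the comparison map on the Ext side: a class in `Ext^0(ℤ_{V∩V'}/ℤ_{W∩V'}, F)` is a section of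
`F` over `V ⊓ V'` -/
noncomputable def b (F : CohTop.Ab X) (V' : Opens X)
    (x : HZ F 0 (inf_le_inf_right V' h : W ⊓ V' ≤ V ⊓ V')) : F.obj.obj (op (V ⊓ V')) :=
  (sect0Equiv F (inf_le_inf_right V' h : W ⊓ V' ≤ V ⊓ V') x).1

lemma b_apply (F : CohTop.Ab X) (V' : Opens X)
    (x : HZ F 0 (inf_le_inf_right V' h : W ⊓ V' ≤ V ⊓ V')) :
    b h F V' x = CohFree.evalGen (Opens.grothendieckTopology X) (V ⊓ V') F
      (cokernel.π (CohCx.freeSheafMap (Opens.grothendieckTopology X)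
        (homOfLE (inf_le_inf_right V' h : W ⊓ V' ≤ V ⊓ V'))) ≫ Abelian.Ext.addEquiv₀ x) := rfl

lemma b_injective (F : CohTop.Ab X) (V' : Opens X) : Function.Injective (b h F V') := by
  intro x y hxy
  exact (sect0Equiv F (inf_le_inf_right V' h : W ⊓ V' ≤ V ⊓ V')).injective (Subtype.ext hxy)

lemma addEquiv₀_mk₀_comp {A B C : CohTop.Ab X} (f : A ⟶ B) (x : Abelian.Ext.{u} B C 0) :
    Abelian.Ext.addEquiv₀ ((Abelian.Ext.mk₀ f).comp x (zero_add 0)) =
      f ≫ Abelian.Ext.addEquiv₀ x := by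
  obtain ⟨φ, rfl⟩ : ∃ φ, x = Abelian.Ext.mk₀ φ :=
    ⟨Abelian.Ext.addEquiv₀ x, (Abelian.Ext.addEquiv₀.symm_apply_apply x).symm⟩
  rw [Abelian.Ext.mk₀_comp_mk₀]
  erw [Abelian.Ext.addEquiv₀.apply_symm_apply, Abelian.Ext.addEquiv₀.apply_symm_apply]

lemma addEquiv₀_comp_mk₀ {A B C : CohTop.Ab X} (x : Abelian.Ext.{u} A B 0) (f : B ⟶ C) :
    Abelian.Ext.addEquiv₀ (x.comp (Abelian.Ext.mk₀ f) (add_zero 0)) =
      Abelian.Ext.addEquiv₀ x ≫ f := by
  obtain ⟨φ, rfl⟩ : ∃ φ, x = Abelian.Ext.mk₀ φ :=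
    ⟨Abelian.Ext.addEquiv₀ x, (Abelian.Ext.addEquiv₀.symm_apply_apply x).symm⟩
  rw [Abelian.Ext.mk₀_comp_mk₀]
  erw [Abelian.Ext.addEquiv₀.apply_symm_apply, Abelian.Ext.addEquiv₀.apply_symm_apply]

lemma b_nat_V (F : CohTop.Ab X) {V₁ V₂ : Opens X} (g : V₂ ≤ V₁)
    (x : HZ F 0 (inf_le_inf_right V₁ h : W ⊓ V₁ ≤ V ⊓ V₁)) :
    b h F V₂ (resZ F 0 (inf_le_inf_right V₁ h) (inf_le_inf_right V₂ h)
        (inf_le_inf_left W g) (inf_le_inf_left V g) x) =
      F.obj.map (homOfLE (inf_le_inf_left V g)).op (b h F V₁ x) := by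
  rw [b_apply, b_apply]
  have e0 : resZ F 0 (inf_le_inf_right V₁ h) (inf_le_inf_right V₂ h)
        (inf_le_inf_left W g) (inf_le_inf_left V g) x =
      (Abelian.Ext.mk₀ (zqMap (inf_le_inf_right V₁ h) (inf_le_inf_right V₂ h)
        (inf_le_inf_left W g) (inf_le_inf_left V g))).comp x (zero_add 0) := rfl
  rw [e0, addEquiv₀_mk₀_comp]
  have e1 : cokernel.π (CohCx.freeSheafMap (Opens.grothendieckTopology X)
        (homOfLE (inf_le_inf_right V₂ h : W ⊓ V₂ ≤ V ⊓ V₂))) ≫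
        zqMap (inf_le_inf_right V₁ h) (inf_le_inf_right V₂ h)
          (inf_le_inf_left W g) (inf_le_inf_left V g) =
      CohCx.freeSheafMap (Opens.grothendieckTopology X) (homOfLE (inf_le_inf_left V g)) ≫
        cokernel.π (CohCx.freeSheafMap (Opens.grothendieckTopology X)
          (homOfLE (inf_le_inf_right V₁ h : W ⊓ V₁ ≤ V ⊓ V₁))) := by
    simp [zqMap]
  rw [← Category.assoc, e1, Category.assoc, CohFree.evalGen_freeSheafMap_comp]

lemma b_nat_F {F F' : CohTop.Ab X} (φ : F ⟶ F') (V' : Opens X)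
    (x : HZ F 0 (inf_le_inf_right V' h : W ⊓ V' ≤ V ⊓ V')) :
    b h F' V' (x.comp (Abelian.Ext.mk₀ φ) (add_zero 0)) =
      φ.hom.app (op (V ⊓ V')) (b h F V' x) := by
  rw [b_apply, b_apply, addEquiv₀_comp_mk₀, ← Category.assoc]
  rfl

end Groth.Agent.Lib.Helper74.LCSheaf
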