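import Groth.Agent.Lib.Helper74.LCSheaf.Sections

/-!
# The degree-zero isomorphism `Γ_Z(F)(V') ≅ Ext^0(ℤ_{V∩V'}/ℤ_{W∩V'}, F)` (helper74)
-/

set_option autoImplicit false
set_option linter.unusedSectionVars false

universe u

open CategoryTheory CategoryTheory.Limits TopologicalSpace Opposite

namespace Groth.Agent.Lib.Helper74.LCSheaf

open LocCohZ SuppFam Groth.Agent.Lib.Helper96 Groth.Agent.Lib.Helper33.LocCohSS
  Groth.Agent.Lib.Helper4.DeltaFamily

variable {X : TopCat.{u}} {W V : Opens X} (h : W ≤ V)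

/-- sections of `Γ_Z(F)` over `V'` are the sections of `F` over `V ⊓ V'` vanishing on `W ⊓ V'` -/
noncomputable def aEquiv (F : CohTop.Ab X) (V' : Opens X) :
    ((sectSuppLC h).obj F).obj.obj (op V') ≃+
      sectZ F (inf_le_inf_right V' h : W ⊓ V' ≤ V ⊓ V') :=
  AddEquiv.ofBijective ((a h F V').codRestrict (sectZ F _) (a_mem h F V'))
    ⟨fun s s' hss => a_injective h F V' (congrArg Subtype.val hss), fun ⟨t, ht⟩ => by
      obtain ⟨s, hs⟩ := a_surjective h F V' t ht
      exact ⟨s, Subtype.ext hs⟩⟩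

/-- sections of `Γ_Z(F)` over `V'` are `Ext^0(ℤ_{V∩V'}/ℤ_{W∩V'}, F)` -/
noncomputable def e (F : CohTop.Ab X) (V' : Opens X) :
    ((sectSuppLC h).obj F).obj.obj (op V') ≃+
      HZ F 0 (inf_le_inf_right V' h : W ⊓ V' ≤ V ⊓ V') :=
  (aEquiv h F V').trans (sect0Equiv F _).symm

lemma b_e (F : CohTop.Ab X) (V' : Opens X) (s : ((sectSuppLC h).obj F).obj.obj (op V')) :
    b h F V' (e h F V' s) = a h F V' s := by
  simp [b, e, aEquiv]

/-- the degree zero isomorphism, for a fixed sheaf -/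
noncomputable def zeroIsoApp (F : CohTop.Ab X) :
    ((sectSuppLC h).obj F).obj ≅ (extFamily.{u} (ZQ h) 0).obj F :=
  NatIso.ofComponents (fun V' => (e h F V'.unop).toAddCommGrpIso) (by
    intro A B g
    ext s
    apply b_injective h F B.unop
    have hg : g = (homOfLE (leOfHom g.unop)).op := Subsingleton.elim _ _
    have e1 := b_nat_V h F (leOfHom g.unop) (e h F A.unop s)
    have e2 := a_nat_V h F (leOfHom g.unop) s
    rw [b_e] at e1
    have e3 := b_e h F B.unop (((sectSuppLC h).obj F).obj.map (homOfLE (leOfHom g.unop)).op s)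
    rw [e2, ← e1] at e3
    rw [hg]
    exact e3)

/-- the degree zero isomorphism `Γ_Z ≅ (V' ↦ Ext^0(ℤ_{V∩V'}/ℤ_{W∩V'}, -))` -/
noncomputable def zeroIso :
    sectSuppLC h ⋙ sheafToPresheaf (Opens.grothendieckTopology X) AddCommGrpCat.{u} ≅
      extFamily.{u} (ZQ h) 0 :=
  NatIso.ofComponents (fun F => zeroIsoApp h F) (by
    intro F F' φ
    ext V' s
    apply b_injective h F' V'.unop
    have e1 := b_nat_F h φ V'.unop (e h F V'.unop s)
    have e2 := a_nat_F h φ V'.unop s
    rw [b_e] at e1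
    have e3 := b_e h F' V'.unop (((sectSuppLC h).map φ).hom.app (op V'.unop) s)
    rw [e2, ← e1] at e3
    exact e3)

end Groth.Agent.Lib.Helper74.LCSheaf
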